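import Mathlib
import Groth.Prelude.Def_HilbD
import Groth.Agent.Desc19b.IdealDescent
import Groth.Agent.Et18.Descent
import Groth.Agent.AlgSpLib.FppfLocal

/-!
# The Hilbert functor of points is a sheaf for a single fpqc cover
-/

set_option autoImplicit false
set_option backward.isDefEq.respectTransparency false
set_option backward.isDefEq.respectTransparency.types false

universe u

open CategoryTheory CategoryTheory.Limits AlgebraicGeometry

namespace Groth.Agent.HilbSh8

variable {X S : Scheme.{u}} (f : X ⟶ S)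

theorem isPullback_XTmap {T T' : Over S} (g : T' ⟶ T) :
    IsPullback (PicF.XTmap f g) (PicF.XTproj f T') (PicF.XTproj f T) g.left := by
  refine IsPullback.of_right ?_ (by simp [PicF.XTmap, PicF.XTproj]) (IsPullback.of_hasPullback f T.hom)
  have h : PicF.XTmap f g ≫ pullback.fst f T.hom = pullback.fst f T'.hom := by simp [PicF.XTmap]
  rw [h, Over.w g]
  exact IsPullback.of_hasPullback f T'.hom

theorem pull_eq_comap {T T' : Over S} (g : T' ⟶ T) (I : (PicF.XT f T).IdealSheafData) :
    HilbD.pull f g I = I.comap (PicF.XTmap f g) := by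
  rw [HilbD.pull, Scheme.IdealSheafData.comap, ← pullbackSymmetry_hom_comp_fst,
    Scheme.Hom.ker_comp_of_isIso]

theorem exists_unique_descend (d : ℕ) (T : Over S) {T' : Scheme.{u}} (g : T' ⟶ T.left)
    [QuasiCompact g] [Flat g] [Surjective g] (Z' : HilbD.Obj f d (HilbD.coverOver T g))
    (hZ' : HilbD.pull f (HilbD.overlapFst T g) Z'.1 = HilbD.pull f (HilbD.overlapSnd T g) Z'.1) :
    ∃! I : (PicF.XT f T).IdealSheafData, Mor2.IsFinLocFreeOfDeg d (I.subschemeι ≫ PicF.XTproj f T) ∧
      HilbD.pull f (HilbD.coverHom T g) I = Z'.1 := by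
  let T₁ : Over S := HilbD.coverOver T g
  let g' : PicF.XT f T₁ ⟶ PicF.XT f T := PicF.XTmap f (HilbD.coverHom T g)
  have sq : IsPullback g' (PicF.XTproj f T₁) (PicF.XTproj f T) g := isPullback_XTmap f (HilbD.coverHom T g)
  haveI : Flat g' := MorphismProperty.of_isPullback sq.flip inferInstance
  haveI : Surjective g' := MorphismProperty.of_isPullback sq.flip inferInstance
  haveI : QuasiCompact g' := MorphismProperty.of_isPullback sq.flip inferInstance
  rw [pull_eq_comap, pull_eq_comap] at hZ'
  obtain ⟨I, hI⟩ := Desc19b.exists_idealSheafData_comap_eq g' Z'.1 (by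
    let m : pullback g' g' ⟶ pullback g g :=
      pullback.lift (pullback.fst g' g' ≫ PicF.XTproj f T₁) (pullback.snd g' g' ≫ PicF.XTproj f T₁)
        (by rw [Category.assoc, Category.assoc, ← sq.w, pullback.condition_assoc])
    let q : pullback g' g' ⟶ PicF.XT f (HilbD.overlapOver T g) :=
      pullback.lift (pullback.fst g' g' ≫ pullback.fst f T₁.hom) m
        (by rw [Category.assoc, pullback.condition]; simp [m, T₁, PicF.XTproj])
    have h1 : q ≫ PicF.XTmap f (HilbD.overlapFst T g) = pullback.fst g' g' := by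
      apply pullback.hom_ext <;> simp [q, m, T₁, PicF.XTmap, PicF.XTproj, HilbD.overlapFst]
    have h2 : q ≫ PicF.XTmap f (HilbD.overlapSnd T g) = pullback.snd g' g' := by
      apply pullback.hom_ext
      · have e : g' ≫ pullback.fst f T.hom = pullback.fst f T₁.hom := by simp [g', T₁, PicF.XTmap]
        simp [q, m, PicF.XTmap, HilbD.overlapSnd]
        rw [← e, pullback.condition_assoc]
        exact congrArg (_ ≫ ·) e
      · simp [q, m, T₁, PicF.XTmap, PicF.XTproj, HilbD.overlapSnd]
    rw [← h1, ← h2, Scheme.IdealSheafData.comap_comp, Scheme.IdealSheafData.comap_comp, hZ'])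
  refine ⟨I, ⟨?_, (pull_eq_comap f _ I).trans hI⟩, fun J hJ => ?_⟩
  swap
  · exact Desc19b.idealSheafData_comap_injective g' (((pull_eq_comap f _ J).symm.trans hJ.2).trans hI.symm)
  let w := I.subschemeι ≫ PicF.XTproj f T
  let w' := pullback.snd I.subschemeι g' ≫ PicF.XTproj f T₁
  have sq' : IsPullback (pullback.fst I.subschemeι g') w' w g :=
    (IsPullback.of_hasPullback I.subschemeι g').paste_vert sq
  let e : (Z'.1).subscheme ≅ pullback I.subschemeι g' :=
    eqToIso (by rw [hI]) ≪≫ I.comapIso g' ≪≫ pullbackSymmetry _ _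
  have hw' : Mor2.IsFinLocFreeOfDeg d w' := by
    have key : e.hom ≫ w' = Z'.1.subschemeι ≫ PicF.XTproj f T₁ := by
      have : ∀ (J : (PicF.XT f T₁).IdealSheafData) (h : J = I.comap g'),
          (eqToIso (show J.subscheme = (I.comap g').subscheme by rw [h]) ≪≫ I.comapIso g' ≪≫
            pullbackSymmetry _ _).hom ≫ pullback.snd I.subschemeι g' = J.subschemeι := by
        intro J h
        subst h
        simp
      simp only [w', ← Category.assoc]
      rw [this Z'.1 hI.symm]
    obtain ⟨⟨h1, h2, h3⟩, h4⟩ := Z'.2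
    have key' : w' = e.inv ≫ Z'.1.subschemeι ≫ PicF.XTproj f T₁ := (Iso.eq_inv_comp e).2 key
    haveI := h1; haveI := h2; haveI := h3
    refine ⟨⟨?_, ?_, ?_⟩, fun y => ?_⟩
    · rw [key']; infer_instance
    · rw [key']; infer_instance
    · rw [key']; infer_instance
    · rw [key', Scheme.Hom.finrank_comp_left_of_isIso]; exact h4 y
  have hfp : Et18.FPQC g := ⟨⟨inferInstance, inferInstance⟩, inferInstance⟩
  obtain ⟨⟨h1, h2, h3⟩, h4⟩ := hw'
  haveI hwfin : IsFinite w :=
    Et18.descends_isFinite.of_isPullback sq'.flip hfp h1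
  haveI hwflat : Flat w :=
    AlgSpLib.descends_flat.of_isPullback sq'.flip hfp h2
  refine ⟨⟨hwfin, hwflat, MorphismProperty.of_isPullback_of_descendsAlong (Q := Et18.FPQC.{u}) sq'.flip hfp h3⟩,
    fun y => ?_⟩
  obtain ⟨y', rfl⟩ := g.surjective y
  change w.finrank (g y') = d
  exact (Scheme.Hom.finrank_of_isPullback _ _ _ _ sq' y').symm.trans (h4 y')

end Groth.Agent.HilbSh8
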