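import Mathlib
import Groth.Agent.HilbSh8.Main
import Groth.Agent.SGA3cLib.WeilRes
import Groth.Agent.SGA3cLib.TransporterFP

/-!
# The locus where one finite flat closed subscheme lies in another is closed
-/

set_option autoImplicit false
set_option backward.isDefEq.respectTransparency false
set_option backward.isDefEq.respectTransparency.types false

universe u

open CategoryTheory CategoryTheory.Limits AlgebraicGeometry

namespace Groth.Agent.HilbSh8

open SGA3cLib

variable {X S : Scheme.{u}} (f : X ⟶ S)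

theorem pull_pull {T T' T'' : Over S} (a : T'' ⟶ T') (b : T' ⟶ T) (I : (PicF.XT f T).IdealSheafData) :
    HilbD.pull f a (HilbD.pull f b I) = HilbD.pull f (a ≫ b) I := by
  rw [pull_eq_comap, pull_eq_comap, pull_eq_comap, ← Scheme.IdealSheafData.comap_comp]
  congr 1
  apply pullback.hom_ext <;> simp [PicF.XTmap]

/-- Being finite locally free is stable under base change. -/
theorem isFinLocFreeOfDeg_pull {d : ℕ} {T T' : Over S} (g : T' ⟶ T) {I : (PicF.XT f T).IdealSheafData}
    (hI : Mor2.IsFinLocFreeOfDeg d (I.subschemeι ≫ PicF.XTproj f T)) :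
    Mor2.IsFinLocFreeOfDeg d ((HilbD.pull f g I).subschemeι ≫ PicF.XTproj f T') := by
  have sq := (IsPullback.of_hasPullback I.subschemeι (PicF.XTmap f g)).paste_vert (isPullback_XTmap f g)
  let e : (HilbD.pull f g I).subscheme ≅ pullback I.subschemeι (PicF.XTmap f g) :=
    (asIso (pullback.snd I.subschemeι (PicF.XTmap f g)).toImage).symm
  have he : (HilbD.pull f g I).subschemeι ≫ PicF.XTproj f T' =
      e.hom ≫ pullback.snd I.subschemeι (PicF.XTmap f g) ≫ PicF.XTproj f T' := by
    rw [← Category.assoc]; congr 1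
    rw [← Iso.inv_comp_eq]
    exact (pullback.snd I.subschemeι (PicF.XTmap f g)).toImage_imageι
  obtain ⟨⟨h1, h2, h3⟩, h4⟩ := hI
  haveI := h1; haveI := h2; haveI := h3
  have i1 : IsFinite (pullback.snd I.subschemeι (PicF.XTmap f g) ≫ PicF.XTproj f T') :=
    MorphismProperty.of_isPullback sq h1
  have i2 : Flat (pullback.snd I.subschemeι (PicF.XTmap f g) ≫ PicF.XTproj f T') :=
    MorphismProperty.of_isPullback sq h2
  have i3 : LocallyOfFinitePresentation (pullback.snd I.subschemeι (PicF.XTmap f g) ≫ PicF.XTproj f T') :=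
    MorphismProperty.of_isPullback sq h3
  refine ⟨⟨?_, ?_, ?_⟩, fun y => ?_⟩
  · rw [he]; infer_instance
  · rw [he]; infer_instance
  · rw [he]; infer_instance
  · rw [he, Scheme.Hom.finrank_comp_left_of_isIso, Scheme.Hom.finrank_of_isPullback _ _ _ _ sq y]
    exact h4 _

/-- The locus over which a closed subscheme of `X_T` finite locally free over `T` lies in another is closed. -/
theorem exists_locus_le (T : Over S) (I J : (PicF.XT f T).IdealSheafData)
    (hI : Mor2.IsFinLocFree (I.subschemeι ≫ PicF.XTproj f T)) :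
    ∃ (E : Scheme.{u}) (e : E ⟶ T.left), IsClosedImmersion e ∧ ∀ (T' : Over S) (u : T' ⟶ T),
      HilbD.pull f u J ≤ HilbD.pull f u I ↔ ∃ k, k ≫ e = u.left := by
  obtain ⟨h1, h2, h3⟩ := hI
  haveI := h1; haveI := h2; haveI := h3
  obtain ⟨E, e, he, hE, -⟩ := WeilRes.exists_closedImmersion (I.subschemeι ≫ PicF.XTproj f T)
    (pullback.fst I.subschemeι J.subschemeι) (TransporterFP.essentiallyFree_of_finite _)
  refine ⟨E, e, he, fun T' u => Iff.trans ?_ (hE _ u.left)⟩
  let x' := PicF.XTmap f u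
  have sq := (IsPullback.of_hasPullback I.subschemeι x').paste_vert (isPullback_XTmap f u)
  have key : HilbD.pull f u J ≤ HilbD.pull f u I ↔
      ∃ l : pullback I.subschemeι x' ⟶ pullback I.subschemeι J.subschemeι,
        l ≫ pullback.fst I.subschemeι J.subschemeι = pullback.fst I.subschemeι x' := by
    rw [pull_eq_comap, HilbD.pull, ← Scheme.IdealSheafData.le_map_iff_comap_le, Scheme.IdealSheafData.map_ker]
    constructor
    · intro h
      have h' : J.subschemeι.ker ≤ (pullback.snd I.subschemeι x' ≫ x').ker := by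
        rw [Scheme.IdealSheafData.ker_subschemeι]; exact h
      refine ⟨pullback.lift (pullback.fst _ _) (IsClosedImmersion.lift J.subschemeι _ h') ?_, pullback.lift_fst _ _ _⟩
      rw [IsClosedImmersion.lift_fac]; exact pullback.condition
    · rintro ⟨l, hl⟩
      have h' : (l ≫ pullback.snd _ _) ≫ J.subschemeι = pullback.snd I.subschemeι x' ≫ x' := by
        rw [Category.assoc, ← pullback.condition, reassoc_of% hl, pullback.condition]
      rw [← h']
      exact (le_of_eq J.ker_subschemeι.symm).trans (Scheme.Hom.le_ker_comp _ _)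
  refine key.trans ⟨fun ⟨l, hl⟩ => ⟨sq.isoPullback.inv ≫ l, ?_⟩, fun ⟨l, hl⟩ => ⟨sq.isoPullback.hom ≫ l, ?_⟩⟩
  · rw [Category.assoc, hl, IsPullback.isoPullback_inv_fst]
  · rw [Category.assoc, hl, IsPullback.isoPullback_hom_fst]

/-- The locus over which two finite locally free closed subschemes agree is closed. -/
theorem exists_locus_eq (T : Over S) (I J : (PicF.XT f T).IdealSheafData)
    (hI : Mor2.IsFinLocFree (I.subschemeι ≫ PicF.XTproj f T))
    (hJ : Mor2.IsFinLocFree (J.subschemeι ≫ PicF.XTproj f T)) :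
    ∃ (E : Scheme.{u}) (e : E ⟶ T.left), IsClosedImmersion e ∧ ∀ (T' : Over S) (u : T' ⟶ T),
      HilbD.pull f u I = HilbD.pull f u J ↔ ∃ k, k ≫ e = u.left := by
  obtain ⟨A, a, ha, hA⟩ := exists_locus_le f T I J hI
  obtain ⟨B, b, hb, hB⟩ := exists_locus_le f T J I hJ
  refine ⟨pullback a b, pullback.fst a b ≫ a, inferInstance, fun T' u => ?_⟩
  rw [le_antisymm_iff, hB, hA]
  constructor
  · rintro ⟨⟨k, hk⟩, l, hl⟩
    exact ⟨pullback.lift l k (hl.trans hk.symm), by rw [pullback.lift_fst_assoc, hl]⟩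
  · rintro ⟨k, hk⟩
    exact ⟨⟨k ≫ pullback.snd a b, by rw [Category.assoc, ← pullback.condition, hk]⟩,
      k ≫ pullback.fst a b, by rw [Category.assoc, hk]⟩

/-- A universal base of the Hilbert functor of points is separated. -/
theorem isSeparated_of_isUniversal {d : ℕ} (H : Over S) (Z : HilbD.Obj f d H)
    (hZ : HilbD.IsUniversal f d H Z) : IsSeparated H.hom := by
  let P : Over S := Over.mk (pullback.fst H.hom H.hom ≫ H.hom)
  let p₁ : P ⟶ H := Over.homMk (pullback.fst H.hom H.hom) rfl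
  let p₂ : P ⟶ H := Over.homMk (pullback.snd H.hom H.hom) pullback.condition.symm
  obtain ⟨E, e, he, hE⟩ := exists_locus_eq f P (HilbD.pull f p₁ Z.1) (HilbD.pull f p₂ Z.1)
    (isFinLocFreeOfDeg_pull f p₁ Z.2).1 (isFinLocFreeOfDeg_pull f p₂ Z.2).1
  let δ : H ⟶ P := Over.homMk (pullback.diagonal H.hom) (by simp [P])
  obtain ⟨k, hk⟩ := (hE H δ).1 (by
    rw [pull_pull, pull_pull]
    exact congrArg (fun g => HilbD.pull f g Z.1) (Over.OverMorphism.ext (by simp [δ, p₁, p₂, P])))
  let E' : Over S := Over.mk (e ≫ P.hom)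
  let ε : E' ⟶ P := Over.homMk e rfl
  have h := (hE E' ε).2 ⟨𝟙 _, Category.id_comp _⟩
  rw [pull_pull, pull_pull] at h
  obtain ⟨g, -, hg⟩ := hZ E' ⟨_, isFinLocFreeOfDeg_pull f (ε ≫ p₁) Z.2⟩
  have h12 : e ≫ pullback.fst H.hom H.hom = e ≫ pullback.snd H.hom H.hom :=
    congrArg CommaMorphism.left ((hg _ rfl).trans (hg _ h.symm).symm)
  have hr : (e ≫ pullback.fst H.hom H.hom) ≫ pullback.diagonal H.hom = e := by
    apply pullback.hom_ext <;> simp [← h12]
  have hk' : k ≫ e = pullback.diagonal H.hom := hk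
  haveI : IsIso k := ⟨e ≫ pullback.fst H.hom H.hom, by rw [reassoc_of% hk']; exact pullback.diagonal_fst _, by
    rw [← cancel_mono e, Category.assoc, hk', hr, Category.id_comp]⟩
  exact ⟨hk' ▸ inferInstance⟩

section Closed

variable {Y : Scheme.{u}} (i : X ⟶ Y) (g : Y ⟶ S)

theorem map_comap_of_le {A B : Scheme.{u}} (j : A ⟶ B) [IsClosedImmersion j] {I : B.IdealSheafData}
    (h : j.ker ≤ I) : (I.comap j).map j = I := by
  refine le_antisymm ?_ (Scheme.IdealSheafData.le_map_comap _ _)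
  have h' : j.ker ≤ I.subschemeι.ker := by rwa [Scheme.IdealSheafData.ker_subschemeι]
  have hl := IsClosedImmersion.lift_fac j I.subschemeι h'
  have hI : (IsClosedImmersion.lift j I.subschemeι h').ker.map j = I := by
    rw [Scheme.IdealSheafData.map_ker, hl, Scheme.IdealSheafData.ker_subschemeι]
  calc (I.comap j).map j ≤ (IsClosedImmersion.lift j I.subschemeι h').ker.map j := by
        apply Scheme.IdealSheafData.map_mono
        rw [← Scheme.IdealSheafData.le_map_iff_comap_le, hI]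
    _ = I := hI

theorem comap_map_self {A B : Scheme.{u}} (j : A ⟶ B) [IsClosedImmersion j] (I : A.IdealSheafData) :
    (I.map j).comap j = I := by
  rw [Scheme.IdealSheafData.map, ← Scheme.IdealSheafData.ker_fst_of_isClosedImmersion]
  have hm : IsPullback I.subschemeι (𝟙 I.subscheme) j (I.subschemeι ≫ j) := IsPullback.of_vert_isIso_mono ⟨by simp⟩
  rw [← hm.isoPullback_inv_fst, Scheme.Hom.ker_comp_of_isIso, Scheme.IdealSheafData.ker_subschemeι]

/-- The closed immersion `X_T ⟶ Y_T`. -/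
noncomputable def iT (T : Over S) : PicF.XT (i ≫ g) T ⟶ PicF.XT g T :=
  pullback.map (i ≫ g) T.hom g T.hom i (𝟙 _) (𝟙 S) (Category.comp_id _) (by simp)

theorem iT_proj (T : Over S) : iT i g T ≫ PicF.XTproj g T = PicF.XTproj (i ≫ g) T := by
  simp [iT, PicF.XTproj]

instance [IsClosedImmersion i] (T : Over S) : IsClosedImmersion (iT i g T) := by
  have h : IsPullback (pullback.fst (i ≫ g) T.hom) (iT i g T) i (pullback.fst g T.hom) := by
    refine (IsPullback.of_bot ?_ (by simp [iT]) (IsPullback.of_hasPullback g T.hom))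
    rw [show iT i g T ≫ pullback.snd g T.hom = pullback.snd (i ≫ g) T.hom by simp [iT]]
    exact IsPullback.of_hasPullback _ _
  exact MorphismProperty.of_isPullback h inferInstance

theorem push_eq_map (T : Over S) (I : (PicF.XT (i ≫ g) T).IdealSheafData) :
    HilbD.push i g T I = I.map (iT i g T) := rfl

theorem isPullback_iT {T T' : Over S} (u : T' ⟶ T) :
    IsPullback (iT i g T') (PicF.XTmap (i ≫ g) u) (PicF.XTmap g u) (iT i g T) := by
  refine IsPullback.of_right ?_ ?_ (isPullback_XTmap g u).flip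
  · rw [iT_proj, iT_proj]
    exact (isPullback_XTmap (i ≫ g) u).flip
  · apply pullback.hom_ext <;> simp [iT, PicF.XTmap]

variable [IsClosedImmersion i]

theorem pull_push {T T' : Over S} (u : T' ⟶ T) (I : (PicF.XT (i ≫ g) T).IdealSheafData) :
    HilbD.pull g u (HilbD.push i g T I) = HilbD.push i g T' (HilbD.pull (i ≫ g) u I) := by
  rw [pull_eq_comap, pull_eq_comap, push_eq_map, push_eq_map, Scheme.IdealSheafData.map,
    ← Scheme.IdealSheafData.ker_fst_of_isClosedImmersion, Scheme.IdealSheafData.comap,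
    Scheme.IdealSheafData.map_ker]
  have sq := (IsPullback.of_hasPullback (PicF.XTmap (i ≫ g) u) I.subschemeι).paste_horiz (isPullback_iT i g u)
  rw [← sq.isoPullback_hom_fst, Scheme.Hom.ker_comp_of_isIso]

theorem pull_ker {T T' : Over S} (u : T' ⟶ T) : HilbD.pull g u (iT i g T).ker = (iT i g T').ker := by
  rw [pull_eq_comap, ← Scheme.IdealSheafData.ker_fst_of_isClosedImmersion]
  rw [← (isPullback_iT i g u).isoPullback_hom_fst, Scheme.Hom.ker_comp_of_isIso]

theorem isFinLocFreeOfDeg_push_iff {d : ℕ} (T : Over S) (I : (PicF.XT (i ≫ g) T).IdealSheafData) :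
    Mor2.IsFinLocFreeOfDeg d ((HilbD.push i g T I).subschemeι ≫ PicF.XTproj g T) ↔
      Mor2.IsFinLocFreeOfDeg d (I.subschemeι ≫ PicF.XTproj (i ≫ g) T) := by
  let t := (I.subschemeι ≫ iT i g T).toImage
  have ht : t ≫ (HilbD.push i g T I).subschemeι ≫ PicF.XTproj g T = I.subschemeι ≫ PicF.XTproj (i ≫ g) T := by
    rw [← Category.assoc]
    have : t ≫ (HilbD.push i g T I).subschemeι = I.subschemeι ≫ iT i g T := Scheme.Hom.toImage_imageι _
    rw [this, Category.assoc, iT_proj]
  constructor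
  · rintro ⟨⟨h1, h2, h3⟩, h4⟩
    haveI := h1; haveI := h2; haveI := h3
    rw [← ht]
    refine ⟨⟨inferInstance, inferInstance, inferInstance⟩, fun y => ?_⟩
    rw [Scheme.Hom.finrank_comp_left_of_isIso]; exact h4 y
  · rintro ⟨⟨h1, h2, h3⟩, h4⟩
    haveI := h1; haveI := h2; haveI := h3
    rw [← (IsIso.inv_comp_eq _).2 ht.symm]
    refine ⟨⟨inferInstance, inferInstance, inferInstance⟩, fun y => ?_⟩
    rw [Scheme.Hom.finrank_comp_left_of_isIso]; exact h4 y

/-- The Hilbert functor of points of a closed subscheme is represented by a closed subscheme. -/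
theorem representable_comp_closedImmersion {d : ℕ} (H : Over S) (Z : HilbD.Obj g d H)
    (hZ : HilbD.IsUniversal g d H Z) :
    HilbD.Representable (i ≫ g) d ∧
      ∀ (H' : Over S) (Z' : HilbD.Obj (i ≫ g) d H') (_ : HilbD.IsUniversal (i ≫ g) d H' Z') (m : H' ⟶ H),
        HilbD.pull g m Z.1 = HilbD.push i g H' Z'.1 → IsClosedImmersion m.left := by
  obtain ⟨E, e, he, hE⟩ := exists_locus_le g H Z.1 (iT i g H).ker Z.2.1
  let E' : Over S := Over.mk (e ≫ H.hom)
  let ε : E' ⟶ H := Over.homMk e rfl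
  have hk : (iT i g E').ker ≤ HilbD.pull g ε Z.1 := by
    rw [← pull_ker i g ε]; exact (hE E' ε).2 ⟨𝟙 _, Category.id_comp _⟩
  let W := (HilbD.pull g ε Z.1).comap (iT i g E')
  have hW : HilbD.push i g E' W = HilbD.pull g ε Z.1 := map_comap_of_le _ hk
  let ZE : HilbD.Obj (i ≫ g) d E' :=
    ⟨W, (isFinLocFreeOfDeg_push_iff i g E' W).1 (by rw [hW]; exact isFinLocFreeOfDeg_pull g ε Z.2)⟩
  have hpush : ∀ {T : Over S} (n : T ⟶ E'),
      HilbD.push i g T (HilbD.pull (i ≫ g) n W) = HilbD.pull g (n ≫ ε) Z.1 := fun n => by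
    rw [← pull_push, hW, pull_pull]
  have huniv : HilbD.IsUniversal (i ≫ g) d E' ZE := by
    intro T A
    obtain ⟨m, hm, hm'⟩ := hZ T ⟨_, (isFinLocFreeOfDeg_push_iff i g T A.1).2 A.2⟩
    have hmA : HilbD.pull g m Z.1 = A.1.map (iT i g T) := hm
    obtain ⟨k, hk'⟩ := (hE T m).1 (by
      rw [pull_ker, hmA, Scheme.IdealSheafData.map]
      exact Scheme.Hom.le_ker_comp _ _)
    let n : T ⟶ E' := Over.homMk k (by simp [E', reassoc_of% hk'])
    have hn : n ≫ ε = m := Over.OverMorphism.ext (by simpa [n, ε] using hk')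
    refine ⟨n, ?_, fun n' hn' => ?_⟩
    · have h := hpush n
      rw [hn, hmA, push_eq_map] at h
      have h' := congrArg (fun J => Scheme.IdealSheafData.comap J (iT i g T)) h
      simpa [comap_map_self] using h'
    · have h1 : n' ≫ ε = m := hm' _ (by
        show HilbD.pull g (n' ≫ ε) Z.1 = HilbD.push i g T A.1
        rw [← hpush n']
        exact congrArg (HilbD.push i g T) hn')
      refine Over.OverMorphism.ext ((cancel_mono e).1 ?_)
      exact congrArg CommaMorphism.left (h1.trans hn.symm)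
  refine ⟨⟨E', ZE, huniv⟩, fun H' Z' hZ' m hm => ?_⟩
  obtain ⟨a, ha, -⟩ := huniv H' Z'
  obtain ⟨b, hb, -⟩ := hZ' E' ZE
  have hab : a ≫ b = 𝟙 H' := by
    obtain ⟨c, -, hc⟩ := hZ' H' Z'
    refine (hc _ ?_).trans (hc _ ?_).symm
    · show HilbD.pull (i ≫ g) (a ≫ b) Z'.1 = Z'.1
      rw [← pull_pull, hb, ha]
    · show HilbD.pull (i ≫ g) (𝟙 H') Z'.1 = Z'.1
      rw [pull_eq_comap, show PicF.XTmap (i ≫ g) (𝟙 H') = 𝟙 _ by apply pullback.hom_ext <;> simp [PicF.XTmap],
        Scheme.IdealSheafData.comap_id]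
  have hba : b ≫ a = 𝟙 E' := by
    obtain ⟨c, -, hc⟩ := huniv E' ZE
    refine (hc _ ?_).trans (hc _ ?_).symm
    · show HilbD.pull (i ≫ g) (b ≫ a) W = W
      rw [← pull_pull, show HilbD.pull (i ≫ g) a W = _ from ha, show HilbD.pull (i ≫ g) b Z'.1 = _ from hb]
    · show HilbD.pull (i ≫ g) (𝟙 E') W = W
      rw [pull_eq_comap, show PicF.XTmap (i ≫ g) (𝟙 E') = 𝟙 _ by apply pullback.hom_ext <;> simp [PicF.XTmap],
        Scheme.IdealSheafData.comap_id]
  obtain ⟨c, -, hc⟩ := hZ H' ⟨_, (isFinLocFreeOfDeg_push_iff i g H' Z'.1).2 Z'.2⟩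
  have hm2 : m = a ≫ ε := (hc _ hm).trans (hc _ (by
    show HilbD.pull g (a ≫ ε) Z.1 = HilbD.push i g H' Z'.1
    rw [← hpush a]
    exact congrArg (HilbD.push i g H') ha)).symm
  haveI : IsIso a := ⟨b, hab, hba⟩
  haveI : IsIso a.left := (Over.forget S).map_isIso a
  rw [hm2]
  show IsClosedImmersion (a.left ≫ e)
  infer_instance

end Closed

end Groth.Agent.HilbSh8
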